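import Groth.Agent.Sga3.QuasiSection.Cut
import Groth.Agent.SpectralTopology.FibreClosure
import Groth.Agent.Variety2.DimScheme
import Mathlib.RingTheory.Etale.QuasiFinite
import Mathlib.Algebra.Category.Ring.Epi

/-!
Quasi-sections through a point closed in its fibre (EGA IV 14.5.4-14.5.9): finite surjective
after an étale base change, with residue field isomorphism.
-/

set_option autoImplicit false
set_option linter.style.haveILetI false

universe u

open CategoryTheory CategoryTheory.Limits AlgebraicGeometry TopologicalSpace Topology TensorProduct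

noncomputable section

namespace Groth.Sga3.QuasiSection

open Groth.EGA43Topo Groth.FibreDim

theorem quasiFiniteAt_quotient_of_params {R B : Type u} [CommRing R] [CommRing B] [Algebra R B] {d : ℕ}
    (t : Fin d → B) (n : Ideal B) [n.IsPrime]
    (hqf : letI := (MvPolynomial.aeval (R := R) t).toRingHom.toAlgebra;
      Algebra.QuasiFiniteAt (MvPolynomial (Fin d) R) n)
    (q : Ideal (B ⧸ Ideal.span (Set.range t))) [q.IsPrime] (hq : n = q.comap (Ideal.Quotient.mk _)) :
    Algebra.QuasiFiniteAt R q := by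
  let T := MvPolynomial (Fin d) R
  let I := Ideal.span (Set.range t)
  letI : Algebra T B := (MvPolynomial.aeval (R := R) t).toRingHom.toAlgebra
  haveI : Algebra.QuasiFiniteAt T n := hqf
  haveI : Algebra.QuasiFiniteAt T q :=
    Algebra.QuasiFiniteAt.of_surjectiveOnStalks n (Ideal.Quotient.mkₐ T I)
      (RingHom.surjectiveOnStalks_of_surjective Ideal.Quotient.mk_surjective) q hq
  letI : Algebra T R := (MvPolynomial.constantCoeff : T →+* R).toAlgebra
  haveI : IsScalarTower T R (B ⧸ I) := IsScalarTower.of_algebraMap_eq fun g => by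
    show Ideal.Quotient.mk I (MvPolynomial.aeval t g) =
      Ideal.Quotient.mk I (algebraMap R B (MvPolynomial.constantCoeff g))
    induction g using MvPolynomial.induction_on with
    | C a => simp
    | add a b ha hb => simp only [map_add, ha, hb]
    | mul_X a i ha =>
      have hti : Ideal.Quotient.mk I (t i) = 0 := Ideal.Quotient.eq_zero_iff_mem.2 (Ideal.subset_span ⟨i, rfl⟩)
      simp [hti]
  exact Algebra.QuasiFinite.of_restrictScalars T R (Localization.AtPrime q)

theorem mem_nhds_of_isConstructible_of_generizations {R : Type u} [CommRing R] {s : Set (PrimeSpectrum R)}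
    (hs : IsConstructible s) {a : PrimeSpectrum R} (h : ∀ b, b ⤳ a → b ∈ s) : s ∈ 𝓝 a := by
  rw [mem_nhds_iff]
  by_contra hc
  have ha : a ∈ closure sᶜ := by
    rw [closure_compl]
    exact fun hi => hc ⟨interior s, interior_subset, isOpen_interior, hi⟩
  obtain ⟨e, he, hea⟩ := Groth.SpectralTopology.exists_specializes_of_mem_closure
    (Groth.SpectralTopology.isClopen_ct_of_isConstructible hs.compl).1 ha
  exact he (h e hea)

theorem surjective_of_epi_of_field {K L : CommRingCat.{u}} (hK : IsField K) (φ : K ⟶ L) [Epi φ] [Nontrivial L] :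
    Function.Surjective φ := by
  letI := hK.toField
  letI : Algebra K L := φ.hom.toAlgebra
  haveI : Algebra.IsEpi K L := CommRingCat.epi_iff_epi.mp (show Epi (CommRingCat.ofHom (algebraMap K L)) from ‹Epi φ›)
  obtain ⟨g, hg⟩ := (Algebra.linearMap K L).exists_leftInverse_of_injective
    (LinearMap.ker_eq_bot.2 (algebraMap K L).injective)
  intro b
  refine ⟨g b, ?_⟩
  have h1 : (1 : L) ⊗ₜ[K] b = b ⊗ₜ[K] (1 : L) := (Algebra.isEpi_iff_forall_one_tmul_eq K L).1 inferInstance b
  have h2 := congrArg ((TensorProduct.lid K L).toLinearMap.comp (TensorProduct.map g LinearMap.id)) h1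
  have hg1 : g 1 = 1 := by
    have := LinearMap.congr_fun hg 1
    simpa using this
  simp [hg1, Algebra.smul_def, RingHom.algebraMap_toAlgebra] at h2
  exact h2.symm

theorem mono_comp_fst {C : Type*} [Category C] {A B Z T K : C} (u : A ⟶ Z) (v : B ⟶ Z) [HasPullback u v]
    (q : T ⟶ pullback u v) [Mono q] (q₂ : T ⟶ K) (i : K ⟶ B) (hfac : q ≫ pullback.snd u v = q₂ ≫ i)
    (hi : Mono (i ≫ v)) : Mono (q ≫ pullback.fst u v) := by
  refine ⟨fun g₁ g₂ h => ?_⟩
  rw [← cancel_mono q]
  refine pullback.hom_ext (by simpa only [Category.assoc] using h) ?_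
  have h' : (g₁ ≫ q₂) ≫ i ≫ v = (g₂ ≫ q₂) ≫ i ≫ v := by
    simp only [Category.assoc]
    rw [← reassoc_of% hfac, ← pullback.condition, reassoc_of% h]
  have h2 := (cancel_mono (i ≫ v)).1 h'
  simp only [Category.assoc, hfac]
  rw [← Category.assoc, h2, Category.assoc]

variable {X S : Scheme.{u}} (f : X ⟶ S) {W : S.Opens} (hW : IsAffineOpen W)

/-- The affine chart of `X ×_S Spec R'` coming from an algebra `B` mapping to `X`. -/
theorem exists_chart (R' : Type u) [CommRing R'] [Algebra Γ(S, W) R'] (B : Type u) [CommRing B]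
    [Algebra Γ(S, W) B] (j : Spec (CommRingCat.of B) ⟶ X)
    (hj : j ≫ f = Spec.map (CommRingCat.ofHom (algebraMap Γ(S, W) B)) ≫ hW.fromSpec) :
    ∃ Θ : Spec (CommRingCat.of (R' ⊗[Γ(S, W)] B)) ⟶
        pullback f (Spec.map (CommRingCat.ofHom (algebraMap Γ(S, W) R')) ≫ hW.fromSpec),
      Θ ≫ pullback.snd _ _ = Spec.map (CommRingCat.ofHom (algebraMap R' (R' ⊗[Γ(S, W)] B))) ∧
      IsPullback Θ (Spec.map (CommRingCat.ofHom
        (Algebra.TensorProduct.includeRight : B →ₐ[Γ(S, W)] R' ⊗[Γ(S, W)] B).toRingHom)) (pullback.fst _ _) j ∧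
      Set.range Θ.base = (pullback.fst f _).base ⁻¹' Set.range j.base := by
  let R := Γ(S, W)
  have h0 := isPullback_SpecMap_of_isPushout _ _ _ _ (CommRingCat.isPushout_tensorProduct R R' B)
  have h1 : IsPullback (Spec.map (CommRingCat.ofHom
      (Algebra.TensorProduct.includeLeftRingHom : R' →+* R' ⊗[R] B)))
      (Spec.map (CommRingCat.ofHom (Algebra.TensorProduct.includeRight : B →ₐ[R] R' ⊗[R] B).toRingHom))
      (Spec.map (CommRingCat.ofHom (algebraMap R R')) ≫ hW.fromSpec) (j ≫ f) := by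
    rw [hj]
    refine ⟨⟨by rw [reassoc_of% h0.w]⟩, ⟨?_⟩⟩
    exact PullbackCone.isLimitOfCompMono _ _ hW.fromSpec _ h0.isLimit
  let Θ : Spec (CommRingCat.of (R' ⊗[R] B)) ⟶
      pullback f (Spec.map (CommRingCat.ofHom (algebraMap R R')) ≫ hW.fromSpec) :=
    pullback.lift (Spec.map (CommRingCat.ofHom
      (Algebra.TensorProduct.includeRight : B →ₐ[R] R' ⊗[R] B).toRingHom) ≫ j)
      (Spec.map (CommRingCat.ofHom (Algebra.TensorProduct.includeLeftRingHom : R' →+* R' ⊗[R] B)))
      (by rw [Category.assoc]; exact h1.w.symm)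
  have hs : Θ ≫ pullback.snd _ _ =
      Spec.map (CommRingCat.ofHom (Algebra.TensorProduct.includeLeftRingHom : R' →+* R' ⊗[R] B)) :=
    pullback.lift_snd ..
  have hp : IsPullback Θ (Spec.map (CommRingCat.ofHom
      (Algebra.TensorProduct.includeRight : B →ₐ[R] R' ⊗[R] B).toRingHom)) (pullback.fst _ _) j := by
    refine IsPullback.of_right (by rw [hs]; exact h1) (pullback.lift_fst ..) ?_
    exact (IsPullback.of_hasPullback f _).flip
  refine ⟨Θ, hs, hp, Set.ext fun a => ⟨?_, ?_⟩⟩
  · rintro ⟨c, rfl⟩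
    have h := congrArg (fun φ => φ.base c) hp.w
    simp only [Scheme.Hom.comp_apply] at h
    exact ⟨_, h.symm⟩
  · rintro ⟨b, hb⟩
    obtain ⟨p, hp1, -⟩ := Scheme.exists_preimage_of_isPullback hp a b hb.symm
    exact ⟨p, hp1⟩

theorem isLocalization_away_fp {R A : Type u} [CommRing R] [CommRing A] [Algebra R A]
    [Algebra.FinitePresentation R A] (e : A) : Algebra.FinitePresentation R (Localization.Away e) :=
  haveI : Algebra.FinitePresentation A (Localization.Away e) := IsLocalization.Away.finitePresentation e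
  Algebra.FinitePresentation.trans R A (Localization.Away e)

/-- At a point over `P`, where `κ(P) = κ(p)`, the projection from the base change is a
monomorphism on the residue field. -/
theorem mono_fromSpecResidueField_fst (R' : Type u) [CommRing R'] [Algebra Γ(S, W) R']
    (p : Ideal Γ(S, W)) [p.IsPrime] (P : PrimeSpectrum R') [P.asIdeal.LiesOver p]
    (H : Function.Bijective (Ideal.ResidueField.mapₐ p P.asIdeal (Algebra.ofId _ _) (P.asIdeal.over_def p)))
    (a : ↥(pullback f (Spec.map (CommRingCat.ofHom (algebraMap Γ(S, W) R')) ≫ hW.fromSpec)))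
    (ha : (pullback.snd _ _ : _ ⟶ Spec (CommRingCat.of R')).base a = P) :
    Mono (Scheme.fromSpecResidueField _ a ≫
      pullback.fst f (Spec.map (CommRingCat.ofHom (algebraMap Γ(S, W) R')) ≫ hW.fromSpec)) := by
  let w := Spec.map (CommRingCat.ofHom (algebraMap Γ(S, W) R')) ≫ hW.fromSpec
  haveI : Epi (CommRingCat.ofHom (algebraMap Γ(S, W) P.asIdeal.ResidueField)) :=
    ⟨fun {T} g₁ g₂ h => by
      refine CommRingCat.hom_ext (RingHom.ext fun z => ?_)
      obtain ⟨y, rfl⟩ := H.2 z
      let σ := (Ideal.ResidueField.mapₐ p P.asIdeal (Algebra.ofId _ _) (P.asIdeal.over_def p)).toRingHom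
      have h2 : g₁.hom.comp σ = g₂.hom.comp σ := Ideal.ResidueField.ringHom_ext <| RingHom.ext fun c => by
        show g₁.hom (σ (algebraMap _ p.ResidueField c)) = g₂.hom (σ (algebraMap _ p.ResidueField c))
        rw [show σ (algebraMap _ p.ResidueField c) = algebraMap _ P.asIdeal.ResidueField c from
          (Ideal.ResidueField.mapₐ p P.asIdeal (Algebra.ofId _ _) (P.asIdeal.over_def p)).commutes c]
        exact congr($h c)
      exact RingHom.congr_fun h2 y⟩
  haveI h3 : Mono (Spec.map (CommRingCat.ofHom (algebraMap Γ(S, W) P.asIdeal.ResidueField))) :=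
    inferInstanceAs (Mono (Scheme.Spec.map (CommRingCat.ofHom (algebraMap Γ(S, W) P.asIdeal.ResidueField)).op))
  have hP : Mono ((Spec (CommRingCat.of R')).fromSpecResidueField P ≫ w) := by
    rw [← Scheme.Spec.map_residueFieldIso_inv_eq_fromSpecResidueField]
    have hc : Spec.map (CommRingCat.ofHom (algebraMap R' P.asIdeal.ResidueField)) ≫
        Spec.map (CommRingCat.ofHom (algebraMap Γ(S, W) R')) =
        Spec.map (CommRingCat.ofHom (algebraMap Γ(S, W) P.asIdeal.ResidueField)) := by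
      rw [← Spec.map_comp, ← CommRingCat.ofHom_comp, ← IsScalarTower.algebraMap_eq]
    simp only [w, Category.assoc, reassoc_of% hc]
    infer_instance
  subst ha
  exact mono_comp_fst f w (Scheme.fromSpecResidueField _ a) ((pullback.snd f w).residueFieldMap a |> Spec.map)
    ((Spec (CommRingCat.of R')).fromSpecResidueField _)
    (Scheme.Hom.SpecMap_residueFieldMap_fromSpecResidueField (pullback.snd f w) a).symm hP

theorem isIso_residueFieldMap_of_mono {Y : Scheme.{u}} (g : Y ⟶ X) (y : Y)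
    (h : Mono (Y.fromSpecResidueField y ≫ g)) : IsIso (g.residueFieldMap y) := by
  rw [← Scheme.Hom.SpecMap_residueFieldMap_fromSpecResidueField] at h
  haveI : Mono (Spec.map (g.residueFieldMap y)) := mono_of_mono _ (X.fromSpecResidueField _)
  haveI : Epi (g.residueFieldMap y) :=
    ⟨fun a b hab => Spec.map_injective ((cancel_mono (Spec.map (g.residueFieldMap y))).1 (by
      rw [← Spec.map_comp, ← Spec.map_comp, hab]))⟩
  exact (ConcreteCategory.isIso_iff_bijective _).2 ⟨(g.residueFieldMap y).hom.injective,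
    surjective_of_epi_of_field (Field.toIsField _) _⟩

theorem fibre_facts [LocallyOfFiniteType f] (x : X)
    (Z : Set ↥(f.base ⁻¹' {f.base x})) (hZ : Z ∈ irreducibleComponents ↥(f.base ⁻¹' {f.base x}))
    (hxZ : x ∈ (Subtype.val '' Z))
    (z : X) (hz : z ∈ Subtype.val '' Z ∧ Subtype.val '' Z ⊆ closure {z})
    (hdim : FlatMor.localDim ↥(f.base ⁻¹' {f.base x}) ⟨x, rfl⟩ = topologicalKrullDim ↥Z) :
    f.base z = f.base x ∧ z ⤳ x ∧ (∀ x', f.base x' = f.base z → x' ⤳ z → x' = z) ∧
      FlatMor.fibreDimAt f x ≤ FlatMor.fibreDimAt f z := by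
  obtain ⟨⟨zF, hzF, rfl⟩, hsub⟩ := hz
  have hzx : zF.1 ⤳ x := specializes_iff_mem_closure.2 (hsub hxZ)
  have hZeq : Z = closure {zF} := by
    have h1 : Z ⊆ closure {zF} := fun a ha => closure_subtype.2 (by simpa using hsub ⟨a, ha, rfl⟩)
    exact subset_antisymm h1 (hZ.2 isIrreducible_singleton.closure h1)
  refine ⟨zF.2, hzx, fun x' hx' hsp => ?_, ?_⟩
  · let a : ↥(f.base ⁻¹' {f.base x}) := ⟨x', hx'.trans zF.2⟩
    have haz : a ⤳ zF := (subtype_specializes_iff a zF).2 hsp
    have h1 : Z ⊆ closure {a} := hZeq.le.trans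
      (closure_minimal (Set.singleton_subset_iff.2 (specializes_iff_mem_closure.1 haz)) isClosed_closure)
    have h2 : a ∈ Z := hZ.2 isIrreducible_singleton.closure h1 (subset_closure rfl)
    exact ((specializes_iff_mem_closure.2 (hsub ⟨a, h2, rfl⟩)).antisymm hsp).eq.symm
  · let hh := f.fiberHomeo (f.base x)
    let c := hh.symm zF
    have hcz : (f.fiberι (f.base x)).base c = zF.1 := f.fiberι_fiberHomeo_symm _ zF
    haveI : LocallyOfFiniteType (f.fiberToSpecResidueField (f.base x)) :=
      inferInstanceAs (LocallyOfFiniteType (pullback.snd f (S.fromSpecResidueField (f.base x))))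
    have hd1 : FlatMor.fibreDimAt f x = topologicalKrullDim ↥Z :=
      (fibreDimAt_eq_of_range f (f.base x) IsEmbedding.subtypeVal Subtype.range_coe ⟨x, rfl⟩).trans hdim
    have hd2 : topologicalKrullDim ↥Z = topologicalKrullDim ↥(closure ({c} : Set ↥(f.fiber (f.base x)))) := by
      have hZ' : Z = hh '' closure {c} := by
        rw [hh.image_closure, Set.image_singleton, hh.apply_symm_apply, hZeq]
      rw [hZ']
      exact (hh.image (closure {c})).symm.isHomeomorph.topologicalKrullDim_eq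
    rw [hd1, hd2, Groth.Variety2.Dim.dim_closure_singleton, ← hcz, fibreDimAt_fiberι]
    exact height_le_localDim (k := S.residueField (f.base x)) (f.fiberToSpecResidueField (f.base x)) c

variable [LocallyOfFinitePresentation f]

theorem exists_quasiSection_through {x z : X}
    (hclosed : ∀ x', f.base x' = f.base x → x ⤳ x' → x' = x) (hzx : z ⤳ x) (hfz : f.base z = f.base x)
    (hzmax : ∀ x', f.base x' = f.base z → x' ⤳ z → x' = z)
    (hdim : FlatMor.fibreDimAt f x ≤ FlatMor.fibreDimAt f z) (hopen : EGA43.IsUnivOpenAt f z) :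
    ∃ (S' S'' : Scheme.{u}) (_ : IsAffine S') (w : S' ⟶ S) (π : S'' ⟶ S') (h : S'' ⟶ X),
      Etale w ∧ IsFinite π ∧ Surjective π ∧ LocallyOfFinitePresentation π ∧ h ≫ f = π ≫ w ∧
      ∃ s'' : S'', (π ≫ w).base ⁻¹' {f.base x} = {s''} ∧ h.base s'' = x ∧ IsIso (h.residueFieldMap s'') := by
  obtain ⟨D, hD⟩ := fibreDimAt_ne_top f x
  obtain ⟨W, hW, hxW, -⟩ := exists_isAffineOpen_mem_and_subset (U := ⊤) (Set.mem_univ (f.base x))
  let O : X.Opens := ⟨{a | FlatMor.fibreDimAt f a ≤ (D : WithBot ℕ∞)}, isOpen_fibreDimAt_le f D⟩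
  obtain ⟨U, hU, hxU, hUO⟩ := exists_isAffineOpen_mem_and_subset (U := f ⁻¹ᵁ W ⊓ O) (x := x) ⟨hxW, hD.le⟩
  have e : U ≤ f ⁻¹ᵁ W := fun a ha => (hUO ha).1
  let R := Γ(S, W)
  let B := Γ(X, U)
  letI : Algebra R B := (f.appLE W U e).hom.toAlgebra
  haveI : Algebra.FinitePresentation R B :=
    RingHom.finitePresentation_algebraMap.1 (f.finitePresentation_appLE hW hU e)
  let p := hW.primeIdealOf ⟨f.base x, e hxU⟩
  let n := hU.primeIdealOf ⟨x, hxU⟩
  haveI : n.asIdeal.LiesOver p.asIdeal :=
    ⟨(congrArg PrimeSpectrum.asIdeal (comap_appLE_primeIdealOf f hW hU e hxU)).symm⟩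
  have hjU : hU.fromSpec ≫ f = Spec.map (CommRingCat.ofHom (algebraMap R B)) ≫ hW.fromSpec :=
    (hW.SpecMap_appLE_fromSpec f hU e).symm
  have hfrom : ∀ b, f.base (hU.fromSpec.base b) =
      hW.fromSpec.base (PrimeSpectrum.comap (algebraMap R B) b) := fun b => by
    rw [← Scheme.Hom.comp_apply, hjU]; rfl
  have hnx : hU.fromSpec.base n = x := hU.fromSpec_primeIdealOf ⟨x, hxU⟩
  have hps : hW.fromSpec.base p = f.base x := hW.fromSpec_primeIdealOf ⟨f.base x, e hxU⟩
  have hcl : ∀ n' : Ideal B, n'.IsPrime → n.asIdeal ≤ n' →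
      n'.comap (algebraMap R B) = p.asIdeal → n' = n.asIdeal := fun n' hn' hle he => by
    have h1 : x ⤳ hU.fromSpec.base ⟨n', hn'⟩ := by
      rw [← hnx]
      exact ((PrimeSpectrum.le_iff_specializes n ⟨n', hn'⟩).1 hle).map hU.fromSpec.continuous
    have h2 : f.base (hU.fromSpec.base ⟨n', hn'⟩) = f.base x := by
      rw [hfrom, show PrimeSpectrum.comap (algebraMap R B) ⟨n', hn'⟩ = p from PrimeSpectrum.ext he, hps]
    exact congrArg PrimeSpectrum.asIdeal (hU.fromSpec.isOpenEmbedding.injective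
      ((hclosed _ h2 h1).trans hnx.symm))
  obtain ⟨d, t, hdD, htn, hqf⟩ := exists_params_of_closed_point p.asIdeal n.asIdeal hcl D
    (ringKrullDim_fiber_le_of_fibreDimAt_le f hW hU e D (fun a ha => (hUO ha).2) p)
  let I := Ideal.span (Set.range t)
  let Q := B ⧸ I
  haveI : Algebra.FinitePresentation R Q :=
    Algebra.FinitePresentation.quotient (Submodule.fg_span (Set.finite_range t))
  let j : Spec (CommRingCat.of Q) ⟶ X :=
    Spec.map (CommRingCat.ofHom (Ideal.Quotient.mk I)) ≫ hU.fromSpec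
  have hjQ : j ≫ f = Spec.map (CommRingCat.ofHom (algebraMap R Q)) ≫ hW.fromSpec := by
    simp only [j, Category.assoc, hjU, ← Spec.map_comp_assoc]
    rfl
  haveI : IsClosedImmersion (Spec.map (CommRingCat.ofHom (Ideal.Quotient.mk I))) :=
    IsClosedImmersion.spec_of_surjective _ Ideal.Quotient.mk_surjective
  haveI : IsImmersion j := inferInstanceAs (IsImmersion (_ ≫ _))
  have hbo : ∀ (b : PrimeSpectrum B) (c : B), hU.fromSpec.base b ∉ X.basicOpen c ↔ c ∈ b.asIdeal :=
    fun b c => by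
      change b ∉ hU.fromSpec ⁻¹ᵁ X.basicOpen c ↔ _
      rw [hU.fromSpec_preimage_basicOpen]
      exact not_not
  have hjrange : ∀ a, a ∈ Set.range j.base ↔ a ∈ U ∧ ∀ i, a ∉ X.basicOpen (t i) := fun a => by
    constructor
    · rintro ⟨c, rfl⟩
      refine ⟨hU.range_fromSpec.le ⟨_, rfl⟩, fun i => (hbo (PrimeSpectrum.comap (Ideal.Quotient.mk I) c) _).2 ?_⟩
      show Ideal.Quotient.mk I (t i) ∈ c.asIdeal
      rw [Ideal.Quotient.eq_zero_iff_mem.2 (Ideal.subset_span (Set.mem_range_self i))]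
      exact zero_mem _
    · rintro ⟨haU, hat⟩
      obtain ⟨b, rfl⟩ := hU.range_fromSpec.ge haU
      have hIb : I ≤ b.asIdeal := Ideal.span_le.2 (by rintro _ ⟨i, rfl⟩; exact (hbo b _).1 (hat i))
      obtain ⟨c, hc⟩ : b ∈ Set.range (PrimeSpectrum.comap (Ideal.Quotient.mk I)) := by
        rw [range_comap_of_surjective _ _ Ideal.Quotient.mk_surjective, Ideal.mk_ker]
        exact hIb
      exact ⟨c, congrArg hU.fromSpec.base hc⟩
  have htx : ∀ i, x ∉ X.basicOpen (t i) := fun i => by
    rw [← hnx]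
    exact (hbo n _).2 (htn i)
  obtain ⟨nb, hnb⟩ := (hjrange x).2 ⟨hxU, htx⟩
  have hnbn : n.asIdeal = nb.asIdeal.comap (Ideal.Quotient.mk I) :=
    congrArg PrimeSpectrum.asIdeal (hU.fromSpec.isOpenEmbedding.injective (hnx.trans hnb.symm))
  haveI : Algebra.QuasiFiniteAt R nb.asIdeal := quasiFiniteAt_quotient_of_params t n.asIdeal hqf nb.asIdeal hnbn
  haveI : nb.asIdeal.LiesOver p.asIdeal :=
    ⟨(n.asIdeal.over_def p.asIdeal).trans (congrArg (Ideal.comap (algebraMap R B)) hnbn)⟩
  have hisoX : ∀ a ∈ U, f.base a = f.base x → (a ⤳ x ∨ x ⤳ a) → (∀ i, a ∉ X.basicOpen (t i)) → a = x := by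
    intro a haU hfa hcmp hat
    rcases hcmp with hax | hxa
    · obtain ⟨b, rfl⟩ := (hjrange a).2 ⟨haU, hat⟩
      rw [← hnb] at hax hfa ⊢
      have hle : b.asIdeal ≤ nb.asIdeal := (PrimeSpectrum.le_iff_specializes b nb).2
        (j.isEmbedding.toIsInducing.specializes_iff.1 hax)
      rw [← Scheme.Hom.comp_apply, ← Scheme.Hom.comp_apply, hjQ, Scheme.Hom.comp_apply,
        Scheme.Hom.comp_apply] at hfa
      have hu : b.asIdeal.under R = nb.asIdeal.under R :=
        congrArg PrimeSpectrum.asIdeal (hW.fromSpec.isOpenEmbedding.injective hfa)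
      rw [show b = nb from PrimeSpectrum.ext (Algebra.QuasiFiniteAt.eq_of_le_of_under_eq hle hu)]
    · exact hclosed a hfa hxa
  obtain ⟨R', _, _, _, P, hPprime, _, ee, -, P', hP'prime, _, hP'q, heP', H, hfin, huniq⟩ :=
    Algebra.exists_etale_isIdempotentElem_forall_liesOver_eq p.asIdeal nb.asIdeal
  let w : Spec (CommRingCat.of R') ⟶ S := Spec.map (CommRingCat.ofHom (algebraMap R R')) ≫ hW.fromSpec
  haveI : Etale (Spec.map (CommRingCat.ofHom (algebraMap R R'))) :=
    (HasRingHomProperty.Spec_iff (P := @Etale)).2 (RingHom.etale_algebraMap.2 ‹_›)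
  haveI : Etale w := inferInstanceAs (Etale (_ ≫ _))
  let sq := IsPullback.of_hasPullback f w
  haveI : LocallyOfFiniteType (pullback.snd f w) := MorphismProperty.pullback_snd _ _ inferInstance
  have hwc : ∀ a, f.base ((pullback.fst f w).base a) = w.base ((pullback.snd f w).base a) := fun a => by
    rw [← Scheme.Hom.comp_apply, pullback.condition, Scheme.Hom.comp_apply]
  obtain ⟨Θ, hΘs, hΘp, hΘr⟩ := exists_chart f hW R' Q j hjQ
  obtain ⟨Θ', hΘs', hΘp', hΘr'⟩ := exists_chart f hW R' B hU.fromSpec hjU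
  haveI : IsImmersion Θ := MorphismProperty.of_isPullback hΘp.flip ‹IsImmersion j›
  haveI : IsOpenImmersion Θ' := MorphismProperty.of_isPullback hΘp'.flip inferInstance
  have hfst : ∀ c, (pullback.fst f w).base (Θ.base c) = j.base (PrimeSpectrum.comap
      (Algebra.TensorProduct.includeRight : Q →ₐ[R] R' ⊗[R] Q).toRingHom c) := fun c => by
    rw [← Scheme.Hom.comp_apply, hΘp.w]; rfl
  have hsnd : ∀ c, (pullback.snd f w).base (Θ.base c) = PrimeSpectrum.comap (algebraMap R' (R' ⊗[R] Q)) c :=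
    fun c => by rw [← Scheme.Hom.comp_apply, hΘs]; rfl
  let Ps : PrimeSpectrum R' := ⟨P, hPprime⟩
  let P's : PrimeSpectrum (R' ⊗[R] Q) := ⟨P', hP'prime⟩
  let x' := Θ.base P's
  have hx'1 : (pullback.fst f w).base x' = x := by
    rw [hfst, ← hnb]; exact congrArg j.base (PrimeSpectrum.ext hP'q)
  have hx'2 : (pullback.snd f w).base x' = Ps :=
    (hsnd P's).trans (PrimeSpectrum.ext (P'.over_def P).symm)
  have hwP : w.base Ps = f.base x := by rw [← hx'2, ← hwc, hx'1]
  obtain ⟨z0, hz0, hfz0, hz0x⟩ : x' ∈ Groth.SpectralTopology.fibreCl (pullback.snd f w).base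
      ((pullback.fst f w).base ⁻¹' {z}) := by
    rw [Groth.SpectralTopology.fibreCl_preimage sq]
    exact ⟨z, rfl, hfz.trans (congrArg f.base hx'1.symm), hx'1.symm ▸ hzx⟩
  replace hz0 : (pullback.fst f w).base z0 = z := hz0
  obtain ⟨z', hfz', hz'z0, hcoh, -⟩ := exists_maximal_fibre_point (pullback.snd f w) z0
  have hz'max := (isMax_asFiber_iff (pullback.snd f w) z').1 (Order.coheight_eq_zero.1 hcoh)
  have hz'z : (pullback.fst f w).base z' = z :=
    hzmax _ (by rw [hwc, hfz', ← hwc, hz0]) (hz0 ▸ hz'z0.map (pullback.fst f w).continuous)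
  have hd' : (d : WithBot ℕ∞) ≤ FlatMor.fibreDimAt (pullback.snd f w) z' := by
    rw [fibreDimAt_baseChange f w _ (pullback.fst f w) sq z', hz'z]
    refine le_trans ?_ hdim
    rw [hD]
    exact_mod_cast hdD
  let U' := Θ'.opensRange
  have hU' : IsAffineOpen U' := isAffineOpen_opensRange Θ'
  have hU'U : ∀ a, a ∈ U' ↔ (pullback.fst f w).base a ∈ U := fun a => by
    show a ∈ Set.range Θ'.base ↔ _
    rw [hΘr', hU.range_fromSpec]
    rfl
  have hle : U' ≤ pullback.fst f w ⁻¹ᵁ U := fun a ha => (hU'U a).1 ha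
  let t' : Fin d → Γ(pullback f w, U') := fun i => (pullback.fst f w).appLE U U' hle (t i)
  have ht' : ∀ a ∈ U', ∀ i, a ∉ (pullback f w).basicOpen (t' i) ↔
      (pullback.fst f w).base a ∉ X.basicOpen (t i) := fun a ha i => by
    rw [Scheme.basicOpen_appLE]
    exact ⟨fun h hc => h ⟨ha, hc⟩, fun h hc => h hc.2⟩
  have hx'U : x' ∈ U' := (hU'U x').2 (hx'1.symm ▸ hxU)
  have hgen : ∀ η : PrimeSpectrum R', η ⤳ Ps →
      η ∈ Set.range (PrimeSpectrum.comap (algebraMap R' (Localization.Away ee))) := by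
    intro η hη
    obtain ⟨y, hyx, hfy, hyU, hyt⟩ := exists_lift_zero (pullback.snd f w)
      (isAffineOpen_top (Spec (CommRingCat.of R'))) hU' (fun _ _ => trivial) hx'U (hz'z0.trans hz0x)
      (hfz'.trans hfz0) hz'max (isUnivOpenAt_baseChange hopen sq z' hz'z) hd' t'
      (fun i => (ht' x' hx'U i).2 (hx'1.symm ▸ htx i))
      (fun a haU hfa hcmp hat => by
        have h1 : (pullback.fst f w).base a = x := hisoX _ ((hU'U a).1 haU)
          (by rw [hwc, hfa, ← hwc, hx'1])
          (hx'1 ▸ hcmp.imp (·.map (pullback.fst f w).continuous) (·.map (pullback.fst f w).continuous))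
          (fun i => (ht' a haU i).1 (hat i))
        obtain ⟨c, rfl⟩ := hΘr.ge (show a ∈ (pullback.fst f w).base ⁻¹' Set.range j.base from
          ⟨nb, hnb.trans h1.symm⟩)
        rw [hsnd, hx'2] at hfa
        haveI : c.asIdeal.LiesOver P := ⟨(congrArg PrimeSpectrum.asIdeal hfa).symm⟩
        rw [hfst, ← hnb] at h1
        have h2 := congrArg PrimeSpectrum.asIdeal (j.isEmbedding.injective h1)
        exact congrArg Θ.base (PrimeSpectrum.ext
          (Ideal.eq_of_comap_eq_comap_of_bijective_residueFieldMap H c.asIdeal P' (h2.trans hP'q.symm))))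
      (η := η) (hx'2.symm ▸ hη)
    obtain ⟨c, rfl⟩ := hΘr.ge (show y ∈ (pullback.fst f w).base ⁻¹' Set.range j.base from
      (hjrange _).2 ⟨(hU'U y).1 hyU, fun i => (ht' y hyU i).1 (hyt i)⟩)
    have hc : c.asIdeal ≤ P' := (PrimeSpectrum.le_iff_specializes c P's).2
      (Θ.isEmbedding.toIsInducing.specializes_iff.1 hyx)
    obtain ⟨c', rfl⟩ : c ∈ Set.range (PrimeSpectrum.comap (algebraMap (R' ⊗[R] Q) (Localization.Away ee))) :=
      (PrimeSpectrum.localization_away_comap_range (Localization.Away ee) ee).ge fun h => heP' (hc h)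
    refine ⟨c', ?_⟩
    rw [← hfy, hsnd, IsScalarTower.algebraMap_eq R' (R' ⊗[R] Q) (Localization.Away ee), PrimeSpectrum.comap_comp]
    rfl
  haveI : Algebra.FinitePresentation R' (R' ⊗[R] Q) := inferInstance
  haveI : Algebra.FinitePresentation R' (Localization.Away ee) := isLocalization_away_fp ee
  have hnhds := mem_nhds_of_isConstructible_of_generizations
    (PrimeSpectrum.isConstructible_range_comap
      (RingHom.finitePresentation_algebraMap.2 ‹Algebra.FinitePresentation R' (Localization.Away ee)›)) hgen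
  haveI : LocallyQuasiFinite (Spec.map (CommRingCat.ofHom (algebraMap R R'))) :=
    (HasRingHomProperty.Spec_iff (P := @LocallyQuasiFinite)).2 (RingHom.quasiFinite_algebraMap.2 inferInstance)
  haveI : LocallyQuasiFinite w := inferInstanceAs (LocallyQuasiFinite (_ ≫ _))
  obtain ⟨O₁, hO₁, hO₁'⟩ := isDiscrete_iff_forall_exists_isOpen.1 (w.isDiscrete_preimage_singleton (f.base x)) Ps hwP
  obtain ⟨_, ⟨r, rfl⟩, hPr, hr⟩ := PrimeSpectrum.isTopologicalBasis_basic_opens.mem_nhds_iff.1
    (Filter.inter_mem hnhds (hO₁.mem_nhds (hO₁'.ge rfl).1))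
  let l : Spec (CommRingCat.of (Localization.Away ee)) ⟶ Spec (CommRingCat.of (R' ⊗[R] Q)) :=
    Spec.map (CommRingCat.ofHom (algebraMap (R' ⊗[R] Q) (Localization.Away ee)))
  haveI : IsOpenImmersion l := IsOpenImmersion.of_isLocalization ee
  let g := l ≫ Θ
  let π : Spec (CommRingCat.of (Localization.Away ee)) ⟶ Spec (CommRingCat.of R') :=
    Spec.map (CommRingCat.ofHom (algebraMap R' (Localization.Away ee)))
  have hg : g ≫ pullback.snd f w = π := by
    show (l ≫ Θ) ≫ pullback.snd f _ = π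
    rw [Category.assoc, hΘs]
    simp only [l, π]
    rw [← Spec.map_comp, ← CommRingCat.ofHom_comp,
      ← IsScalarTower.algebraMap_eq R' (R' ⊗[R] Q) (Localization.Away ee)]
  haveI : IsFinite π := (IsFinite.SpecMap_iff _).2 (RingHom.finite_algebraMap.2 hfin)
  haveI : LocallyOfFinitePresentation π :=
    (HasRingHomProperty.Spec_iff (P := @LocallyOfFinitePresentation)).2
      (RingHom.finitePresentation_algebraMap.2 ‹Algebra.FinitePresentation R' (Localization.Away ee)›)
  let Dr : (Spec (CommRingCat.of R')).Opens := PrimeSpectrum.basicOpen r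
  haveI hS' : IsAffine Dr.toScheme := IsAffineOpen.Spec_basicOpen (R := CommRingCat.of R') r
  obtain ⟨c₀, hc₀⟩ : P's ∈ Set.range l.base :=
    (PrimeSpectrum.localization_away_comap_range (Localization.Away ee) ee).ge heP'
  have hgc₀ : g.base c₀ = x' := by rw [Scheme.Hom.comp_apply, hc₀]
  have hπc₀ : π.base c₀ = Ps := by rw [← hg, Scheme.Hom.comp_apply, hgc₀, hx'2]
  let s'' : (π ⁻¹ᵁ Dr).toScheme := ⟨c₀, show π.base c₀ ∈ Dr from hπc₀.symm ▸ hPr⟩
  refine ⟨Dr.toScheme, (π ⁻¹ᵁ Dr).toScheme, hS', Dr.ι ≫ w, π ∣_ Dr, ((π ⁻¹ᵁ Dr).ι ≫ g) ≫ pullback.fst f w,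
    inferInstance, inferInstance, ⟨fun a => ?_⟩, inferInstance, ?_, s'', ?_, ?_, ?_⟩
  · obtain ⟨c, hc⟩ := (hr a.2).1
    refine ⟨⟨c, show π.base c ∈ Dr by rw [show π.base c = a.1 from hc]; exact a.2⟩, Subtype.ext ?_⟩
    rw [morphismRestrict_base_coe]
    exact hc
  · rw [Category.assoc, pullback.condition, Category.assoc, reassoc_of% hg, morphismRestrict_ι_assoc]
  · refine Set.ext fun c => ⟨fun hc => ?_, fun hc => ?_⟩
    · replace hc : w.base (π.base c.1) = f.base x := by
        rw [Set.mem_preimage, Set.mem_singleton_iff, morphismRestrict_ι_assoc] at hc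
        exact hc
      have h1 : π.base c.1 = Ps := hO₁'.le ⟨(hr c.2).2, hc⟩
      replace h1 : (pullback.snd f w).base (Θ.base (l.base c.1)) = Ps := by
        rw [← h1]
        exact congrArg (fun φ => φ.base c.1) hg
      rw [hsnd] at h1
      haveI : (l.base c.1).asIdeal.LiesOver P := ⟨(congrArg PrimeSpectrum.asIdeal h1).symm⟩
      have h2 : ee ∉ (l.base c.1).asIdeal :=
        (PrimeSpectrum.localization_away_comap_range (Localization.Away ee) ee).le ⟨c.1, rfl⟩
      exact Subtype.ext (l.isOpenEmbedding.injective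
        ((show l.base c.1 = P's from PrimeSpectrum.ext (huniq _ inferInstance inferInstance h2)).trans hc₀.symm))
    · rw [hc, Set.mem_preimage, Set.mem_singleton_iff, morphismRestrict_ι_assoc]
      show w.base (π.base c₀) = f.base x
      rw [hπc₀, hwP]
  · show (pullback.fst f w).base (g.base c₀) = x
    rw [hgc₀, hx'1]
  · let g' := (π ⁻¹ᵁ Dr).ι ≫ g
    have hy : (pullback.snd f w).base (g'.base s'') = Ps := by
      show (pullback.snd f w).base (g.base c₀) = Ps
      rw [hgc₀, hx'2]
    haveI := isIso_residueFieldMap_of_mono (pullback.fst f w) (g'.base s'')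
      (mono_fromSpecResidueField_fst f hW R' p.asIdeal Ps H (g'.base s'') hy)
    haveI : IsPreimmersion g' := inferInstanceAs (IsPreimmersion (_ ≫ _ ≫ _))
    haveI : IsIso (g'.residueFieldMap s'') := (ConcreteCategory.isIso_iff_bijective _).2
      ⟨(g'.residueFieldMap s'').hom.injective, Groth.Variety2.Dim.residueFieldMap_surjective g' s''⟩
    rw [Scheme.residueFieldMap_comp]
    exact @IsIso.comp_isIso _ _ _ _ _ _ _
      (show IsIso (Scheme.Hom.residueFieldMap (pullback.fst f w) (g'.base s'')) from inferInstance)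
      (show IsIso (g'.residueFieldMap s'') from inferInstance)

end Groth.Sga3.QuasiSection
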