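import Groth.Agent.EGA43Topo.QuasiSection

/-!
Cutting a morphism locally of finite type by parameters near a point where it is universally open:
every generization in the base lifts to a common zero of the parameters.
-/

set_option autoImplicit false
set_option linter.style.haveILetI false

universe u

open CategoryTheory CategoryTheory.Limits AlgebraicGeometry TopologicalSpace Topology

noncomputable section

namespace Groth.Sga3.QuasiSection

open Groth.EGA43Topo Groth.FibreDim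

theorem exists_lift_zero {X Y : Scheme.{u}} (f : X ⟶ Y) [LocallyOfFiniteType f] {W : Y.Opens}
    (hW : IsAffineOpen W) {U : X.Opens} (hU : IsAffineOpen U) (e : U ≤ f ⁻¹ᵁ W) {x z : X} (hxU : x ∈ U)
    (hzx : z ⤳ x) (hfz : f.base z = f.base x)
    (hzmax : ∀ x', f.base x' = f.base z → x' ⤳ z → x' = z) (hopen : EGA43.IsUnivOpenAt f z) {s : ℕ}
    (hs : (s : WithBot ℕ∞) ≤ FlatMor.fibreDimAt f z) (t : Fin s → Γ(X, U))
    (ht : ∀ i, x ∉ X.basicOpen (t i))
    (hiso : ∀ a ∈ U, f.base a = f.base x → (a ⤳ x ∨ x ⤳ a) → (∀ i, a ∉ X.basicOpen (t i)) → a = x)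
    {η : Y} (hη : η ⤳ f.base x) :
    ∃ y : X, y ⤳ x ∧ f.base y = η ∧ y ∈ U ∧ ∀ i, y ∉ X.basicOpen (t i) := by
  letI := (f.appLE W U e).hom.toAlgebra
  haveI : Algebra.FiniteType Γ(Y, W) Γ(X, U) :=
    RingHom.finiteType_algebraMap.1 (f.finiteType_appLE hW hU e)
  obtain ⟨a, haz, hfa, hamax, hdima⟩ := exists_generization_of_isUnivOpenAt hopen hzmax (hfz.symm ▸ hη)
  have hax : a ⤳ x := haz.trans hzx
  have haU : a ∈ U := hax.mem_open U.isOpen hxU
  obtain ⟨D, hD₁, hD₂⟩ := exists_relTrdeg_eq_height f a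
  have hsD : s ≤ D := by
    have h1 := hs.trans hdima
    rw [(fibreDimAt_eq_height_of_max f (fun w hw => hamax w (hw.trans hfa))).1, hD₂] at h1
    exact_mod_cast h1
  let p := hW.primeIdealOf ⟨f.base x, e hxU⟩
  let n := hU.primeIdealOf ⟨x, hxU⟩
  let q := hW.primeIdealOf ⟨f.base a, e haU⟩
  let P := hU.primeIdealOf ⟨a, haU⟩
  haveI : n.asIdeal.LiesOver p.asIdeal :=
    ⟨(congrArg PrimeSpectrum.asIdeal (comap_appLE_primeIdealOf f hW hU e hxU)).symm⟩
  haveI : P.asIdeal.LiesOver q.asIdeal :=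
    ⟨(congrArg PrimeSpectrum.asIdeal (comap_appLE_primeIdealOf f hW hU e haU)).symm⟩
  have hsp : ∀ b c : PrimeSpectrum Γ(X, U), hU.fromSpec.base b ⤳ hU.fromSpec.base c ↔ b.asIdeal ≤ c.asIdeal :=
    fun b c => hU.fromSpec.isOpenEmbedding.toIsInducing.specializes_iff.trans
      (PrimeSpectrum.le_iff_specializes b c).symm
  have hPn : P.asIdeal ≤ n.asIdeal := (hsp P n).1 (by
    rw [hU.fromSpec_primeIdealOf, hU.fromSpec_primeIdealOf]; exact hax)
  have hfrom : ∀ b, f.base (hU.fromSpec.base b) =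
      hW.fromSpec.base (PrimeSpectrum.comap (algebraMap Γ(Y, W) Γ(X, U)) b) := fun b => by
    rw [← Scheme.Hom.comp_apply, ← hW.SpecMap_appLE_fromSpec f hU e]
    rfl
  have hbo : ∀ (b : PrimeSpectrum Γ(X, U)) (c : Γ(X, U)), hU.fromSpec.base b ∉ X.basicOpen c ↔ c ∈ b.asIdeal :=
    fun b c => by
      change b ∉ hU.fromSpec ⁻¹ᵁ X.basicOpen c ↔ _
      rw [hU.fromSpec_preimage_basicOpen]
      exact not_not
  have htn : ∀ i, t i ∈ n.asIdeal := fun i => (hbo n _).1 (by rw [hU.fromSpec_primeIdealOf]; exact ht i)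
  let T := MvPolynomial (Fin s) Γ(Y, W)
  letI : Algebra T Γ(X, U) := (MvPolynomial.aeval (R := Γ(Y, W)) t).toRingHom.toAlgebra
  haveI : IsScalarTower Γ(Y, W) T Γ(X, U) :=
    IsScalarTower.of_algebraMap_eq fun c => ((MvPolynomial.aeval t).commutes c).symm
  haveI : Algebra.FiniteType T Γ(X, U) := .of_restrictScalars_finiteType Γ(Y, W) _ _
  haveI hqf : Algebra.QuasiFiniteAt T n.asIdeal := by
    refine quasiFiniteAt_of_comparable n.asIdeal fun n' hn' hcmp he => ?_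
    have hp : n'.comap (algebraMap Γ(Y, W) Γ(X, U)) = p.asIdeal := by
      rw [IsScalarTower.algebraMap_eq Γ(Y, W) T Γ(X, U), ← Ideal.comap_comap, he, Ideal.comap_comap,
        ← IsScalarTower.algebraMap_eq]
      exact (n.asIdeal.over_def p.asIdeal).symm
    have htn' : ∀ i, t i ∈ n' := fun i => by
      have h1 : (MvPolynomial.X i : T) ∈ n'.comap (algebraMap T Γ(X, U)) := he.ge (by
        rw [Ideal.mem_comap, RingHom.algebraMap_toAlgebra]
        change MvPolynomial.aeval t (MvPolynomial.X i) ∈ n.asIdeal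
        rw [MvPolynomial.aeval_X]; exact htn i)
      rw [Ideal.mem_comap, RingHom.algebraMap_toAlgebra] at h1
      change MvPolynomial.aeval t (MvPolynomial.X i) ∈ n' at h1
      rwa [MvPolynomial.aeval_X] at h1
    have hb := hiso (hU.fromSpec.base ⟨n', hn'⟩) (hU.range_fromSpec.le ⟨_, rfl⟩) (by
        rw [hfrom, show PrimeSpectrum.comap (algebraMap Γ(Y, W) Γ(X, U)) ⟨n', hn'⟩ = p from PrimeSpectrum.ext hp,
          hW.fromSpec_primeIdealOf]) (by
        have h2 : hU.fromSpec.base n = x := hU.fromSpec_primeIdealOf ⟨x, hxU⟩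
        rw [← h2]
        exact hcmp.imp ((hsp ⟨n', hn'⟩ n).2) ((hsp n ⟨n', hn'⟩).2)) fun i => (hbo _ _).2 (htn' i)
    exact congrArg PrimeSpectrum.asIdeal
      (hU.fromSpec.isOpenEmbedding.injective (hb.trans (hU.fromSpec_primeIdealOf ⟨x, hxU⟩).symm))
  obtain ⟨_, ⟨r, rfl⟩, hnr, hr⟩ := PrimeSpectrum.isTopologicalBasis_basic_opens.exists_subset_of_mem_open
    (hqf : n ∈ {q : PrimeSpectrum Γ(X, U) | Algebra.QuasiFiniteAt T q.asIdeal})
    (Groth.FibreDim.isOpen_setOf_quasiFiniteAt T _)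
  replace hnr : r ∉ n.asIdeal := hnr
  have hind : ∀ g : T, MvPolynomial.aeval t g ∈ P.asIdeal ↔ ∀ m, g.coeff m ∈ q.asIdeal := by
    refine mem_iff_of_algebraicIndependent q.asIdeal P.asIdeal t
      (algebraicIndependent_of_quasiFiniteAt q.asIdeal P.asIdeal t (Algebra.QuasiFiniteAt.of_le hPn) ?_)
    rw [Groth.FibreDim.relTrdeg_eq_trdeg_quotient f hW hU e haU, hD₁]
    exact Nat.cast_le.2 hsD
  obtain ⟨Q, hQ, -, hQn, htQ, hQq⟩ :=
    exists_prime_over_params q.asIdeal P.asIdeal t hind n.asIdeal hPn htn r hnr fun m hm => hr (a := m) hm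
  refine ⟨hU.fromSpec.base ⟨Q, hQ⟩, ?_, ?_, hU.range_fromSpec.le ⟨_, rfl⟩, fun i => (hbo _ _).2 (htQ i)⟩
  · have h2 : hU.fromSpec.base n = x := hU.fromSpec_primeIdealOf ⟨x, hxU⟩
    rw [← h2]
    exact (hsp ⟨Q, hQ⟩ n).2 hQn
  · rw [hfrom, show PrimeSpectrum.comap (algebraMap Γ(Y, W) Γ(X, U)) ⟨Q, hQ⟩ = q from PrimeSpectrum.ext hQq,
      hW.fromSpec_primeIdealOf]
    exact hfa

end Groth.Sga3.QuasiSection
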